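import Mathlib
import Cfsg.Agent.Designs.SteinerCount
import Cfsg.Agent.Eq.Def_Sporadic_a

/-!
Self-orthogonal binary codes of length 24, dimension 12 and minimum weight 8: coset leaders, the
Steiner system of the words of weight 8, self-duality, doubly evenness.
-/

set_option autoImplicit false

open scoped symmDiff

namespace CfsgLib.SelfDual24

/-- The word with a given support. -/
def word (s : Finset (Fin 24)) : Fin 24 → ZMod 2 := fun i => if i ∈ s then 1 else 0

/-- The support of a word. -/
def supp (w : Fin 24 → ZMod 2) : Finset (Fin 24) := Finset.univ.filter fun i => w i ≠ 0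

theorem zmod_two (a : ZMod 2) : a = 0 ∨ a = 1 := by revert a; decide

@[simp] theorem mem_supp {w : Fin 24 → ZMod 2} {i : Fin 24} : i ∈ supp w ↔ w i ≠ 0 := by
  simp [supp]

@[simp] theorem supp_word (s : Finset (Fin 24)) : supp (word s) = s := by
  ext i; simp [word]

@[simp] theorem word_supp (w : Fin 24 → ZMod 2) : word (supp w) = w := by
  funext i
  rcases zmod_two (w i) with h | h <;> simp [word, h]

theorem supp_injective : Function.Injective supp :=
  Function.LeftInverse.injective word_supp

theorem supp_add (v w : Fin 24 → ZMod 2) : supp (v + w) = supp v ∆ supp w := by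
  ext i
  rcases zmod_two (v i) with h | h <;> rcases zmod_two (w i) with h' | h' <;>
    simp [Finset.mem_symmDiff, h, h'] <;> decide

theorem supp_sub (v w : Fin 24 → ZMod 2) : supp (v - w) = supp v ∆ supp w := by
  rw [← supp_add]
  congr 1
  funext i
  rcases zmod_two (v i) with h | h <;> rcases zmod_two (w i) with h' | h' <;> simp [h, h'] <;> decide

theorem supp_zero : supp 0 = ∅ := by ext i; simp

theorem hammingNorm_eq (w : Fin 24 → ZMod 2) : hammingNorm w = (supp w).card := rfl

theorem dot_eq (v w : Fin 24 → ZMod 2) : ∑ i, v i * w i = ((supp v ∩ supp w).card : ZMod 2) := by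
  have : ∀ i, v i * w i = if i ∈ supp v ∩ supp w then 1 else 0 := by
    intro i
    rcases zmod_two (v i) with h | h <;> rcases zmod_two (w i) with h' | h' <;> simp [h, h']
  simp only [this, Finset.sum_boole]
  congr 2
  ext i; simp

/-- The hypotheses on the code. -/
structure Hyp (C : Submodule (ZMod 2) (Fin 24 → ZMod 2)) : Prop where
  dim : Module.finrank (ZMod 2) C = 12
  orth : ∀ v ∈ C, ∀ w ∈ C, ∑ i, v i * w i = 0
  minWeight : ∀ w ∈ C, w ≠ 0 → 8 ≤ hammingNorm w

/-- The supports of the code words. -/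
noncomputable def sets (C : Submodule (ZMod 2) (Fin 24 → ZMod 2)) : Finset (Finset (Fin 24)) :=
  (C : Set (Fin 24 → ZMod 2)).toFinite.toFinset.image supp

variable {C : Submodule (ZMod 2) (Fin 24 → ZMod 2)}

theorem mem_sets {s : Finset (Fin 24)} : s ∈ sets C ↔ word s ∈ C := by
  simp only [sets, Finset.mem_image, Set.Finite.mem_toFinset, SetLike.mem_coe]
  exact ⟨fun ⟨w, hw, e⟩ => by rw [← e, word_supp]; exact hw, fun h => ⟨_, h, supp_word s⟩⟩

theorem supp_mem_sets {w : Fin 24 → ZMod 2} : supp w ∈ sets C ↔ w ∈ C := by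
  rw [mem_sets, word_supp]

theorem symmDiff_mem {s t : Finset (Fin 24)} (hs : s ∈ sets C) (ht : t ∈ sets C) :
    s ∆ t ∈ sets C := by
  rw [mem_sets] at hs ht
  have := supp_mem_sets.2 (C.add_mem hs ht)
  rwa [supp_add, supp_word, supp_word] at this

theorem card_symmDiff_add (s t : Finset (Fin 24)) :
    (s ∆ t).card + 2 * (s ∩ t).card = s.card + t.card := by
  have h1 : (s ∆ t).card = (s \ t).card + (t \ s).card :=
    Finset.card_union_of_disjoint disjoint_sdiff_sdiff
  have h2 := Finset.card_sdiff_add_card_inter s t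
  have h3 := Finset.card_sdiff_add_card_inter t s
  rw [Finset.inter_comm t s] at h3
  omega

namespace Hyp

variable (h : Hyp C)
include h

theorem even_inter {s t : Finset (Fin 24)} (hs : s ∈ sets C) (ht : t ∈ sets C) :
    Even (s ∩ t).card := by
  have := h.orth _ (mem_sets.1 hs) _ (mem_sets.1 ht)
  rw [dot_eq, supp_word, supp_word, ZMod.natCast_eq_zero_iff_even] at this
  exact this

theorem even_card {s : Finset (Fin 24)} (hs : s ∈ sets C) : Even s.card := by
  simpa using h.even_inter hs hs

theorem eq_empty_or {s : Finset (Fin 24)} (hs : s ∈ sets C) : s = ∅ ∨ 8 ≤ s.card := by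
  by_cases h0 : word s = 0
  · left; rw [← supp_word s, h0, supp_zero]
  · right
    have := h.minWeight _ (mem_sets.1 hs) h0
    rwa [hammingNorm_eq, supp_word] at this

theorem eq_of_card_le {s t : Finset (Fin 24)} (hs : s ∈ sets C) (ht : t ∈ sets C)
    (hd : (s ∆ t).card ≤ 7) : s = t := by
  rcases h.eq_empty_or (symmDiff_mem hs ht) with e | e
  · exact symmDiff_eq_bot.1 e
  · omega

theorem card_sets : (sets C).card = 4096 := by
  rw [sets, Finset.card_image_of_injective _ supp_injective,
    ← Set.ncard_eq_toFinset_card (C : Set (Fin 24 → ZMod 2)) (Set.toFinite _)]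
  show Nat.card C = 4096
  rw [Module.natCard_eq_pow_finrank (K := ZMod 2), h.dim, Nat.card_zmod]
  norm_num

/-- The punctured code is perfect. -/
theorem cover (i : Fin 24) (x : Finset (Fin 24)) :
    ∃ c ∈ sets C, ∃ e : Finset (Fin 24), i ∉ e ∧ e.card ≤ 3 ∧ x.erase i = (c.erase i) ∆ e := by
  classical
  set U : Finset (Fin 24) := Finset.univ.erase i with hU
  set B := U.powerset.filter fun e => e.card ≤ 3 with hB
  set f : Finset (Fin 24) × Finset (Fin 24) → Finset (Fin 24) := fun p => (p.1.erase i) ∆ p.2 with hf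
  have hUcard : U.card = 23 := by simp [hU]
  have hBcard : B.card = 2048 := by
    have e : B = (Finset.range 4).biUnion (fun k => U.powersetCard k) := by
      ext s
      simp only [hB, Finset.mem_filter, Finset.mem_powerset, Finset.mem_biUnion, Finset.mem_range,
        Finset.mem_powersetCard]
      exact ⟨fun ⟨a, b⟩ => ⟨s.card, by omega, a, rfl⟩, fun ⟨k, hk, a, b⟩ => ⟨a, by omega⟩⟩
    rw [e, Finset.card_biUnion]
    · simp only [Finset.card_powersetCard, hUcard]
      rfl
    · intro a _ b _ hab
      rw [Function.onFun, Finset.disjoint_left]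
      intro s hs hs'
      exact hab ((Finset.mem_powersetCard.1 hs).2.symm.trans (Finset.mem_powersetCard.1 hs').2)
  have hsub : ∀ p ∈ sets C ×ˢ B, f p ∈ U.powerset := by
    rintro ⟨c, e⟩ hp
    simp only [Finset.mem_product, hB, Finset.mem_filter, Finset.mem_powerset] at hp
    rw [Finset.mem_powerset]
    intro a ha
    rcases Finset.mem_symmDiff.1 ha with ⟨ha, -⟩ | ⟨ha, -⟩
    · exact Finset.mem_erase.2 ⟨(Finset.mem_erase.1 ha).1, Finset.mem_univ _⟩
    · exact hp.2.1 ha
  have hinj : Set.InjOn f ↑(sets C ×ˢ B) := by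
    rintro ⟨c, e⟩ hp ⟨c', e'⟩ hp' heq
    simp only [Finset.coe_product, Set.mem_prod, Finset.mem_coe, hB, Finset.mem_filter,
      Finset.mem_powerset] at hp hp'
    have heq' : (c.erase i) ∆ e = (c'.erase i) ∆ e' := heq
    have hd : (c.erase i) ∆ (c'.erase i) = e ∆ e' := by
      have := congrArg (fun s => (c'.erase i) ∆ s ∆ e) heq'
      simp only [symmDiff_assoc, symmDiff_self, symmDiff_bot] at this
      rw [symmDiff_comm, this, symmDiff_symmDiff_cancel_left, symmDiff_comm]
    have hle : (c ∆ c').card ≤ 7 := by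
      have h1 : c ∆ c' ⊆ insert i ((c.erase i) ∆ (c'.erase i)) := by
        intro a ha
        by_cases hai : a = i
        · simp [hai]
        · simp only [Finset.mem_symmDiff, Finset.mem_insert, Finset.mem_erase] at ha ⊢
          tauto
      have h2 := (Finset.card_le_card h1).trans (Finset.card_insert_le _ _)
      have h3 : (e ∆ e').card ≤ 6 :=
        (Finset.card_le_card Finset.symmDiff_subset_union).trans
          ((Finset.card_union_le _ _).trans (by omega))
      rw [hd] at h2
      omega
    have hcc := h.eq_of_card_le hp.1 hp'.1 hle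
    subst hcc
    exact Prod.ext rfl (symmDiff_right_injective _ heq')
  have himg : (sets C ×ˢ B).image f = U.powerset := by
    refine Finset.eq_of_subset_of_card_le (fun y hy => ?_) ?_
    · obtain ⟨p, hp, rfl⟩ := Finset.mem_image.1 hy
      exact hsub p hp
    · rw [Finset.card_image_of_injOn hinj, Finset.card_product, h.card_sets, hBcard,
        Finset.card_powerset, hUcard]
      norm_num
  have hx : x.erase i ∈ U.powerset :=
    Finset.mem_powerset.2 fun a ha => Finset.mem_erase.2 ⟨(Finset.mem_erase.1 ha).1, Finset.mem_univ _⟩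
  rw [← himg] at hx
  obtain ⟨⟨c, e⟩, hp, he⟩ := Finset.mem_image.1 hx
  simp only [Finset.mem_product, hB, Finset.mem_filter, Finset.mem_powerset] at hp
  exact ⟨c, hp.1, e, fun hie => (Finset.mem_erase.1 (hp.2.1 hie)).1 rfl, hp.2.2, he.symm⟩

/-- A coset leader, moreover containing a given point if it has weight 4. -/
theorem leader (i : Fin 24) (x : Finset (Fin 24)) :
    ∃ c ∈ sets C, (x ∆ c).card ≤ 4 ∧ ((x ∆ c).card = 4 → i ∈ x ∆ c) := by
  obtain ⟨c, hc, e, -, he, hxe⟩ := h.cover i x
  have herase : (x ∆ c).erase i = e := by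
    have h1 : (x ∆ c).erase i = (x.erase i) ∆ (c.erase i) := by
      ext a
      simp only [Finset.mem_erase, Finset.mem_symmDiff]
      tauto
    rw [h1, hxe, symmDiff_comm, symmDiff_symmDiff_cancel_left]
  refine ⟨c, hc, ?_, ?_⟩
  · have := Finset.pred_card_le_card_erase (s := x ∆ c) (a := i)
    rw [herase] at this
    omega
  · intro h4
    by_contra hi
    rw [Finset.erase_eq_of_notMem hi] at herase
    rw [herase] at h4
    omega

/-- Every five points lie in exactly one word of weight 8. -/
theorem steiner (s : Finset (Fin 24)) (hs : s.card = 5) :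
    ∃! b, b ∈ (sets C).filter (fun b => b.card = 8) ∧ s ⊆ b := by
  obtain ⟨i, hi⟩ := Finset.card_pos.1 (show 0 < s.card by omega)
  obtain ⟨c, hc, e, hie, he, hse⟩ := h.cover i s
  have hs4 : (s.erase i).card = 4 := by rw [Finset.card_erase_of_mem hi]; omega
  have hce : c.erase i = (s.erase i) ∆ e := by
    rw [hse, symmDiff_symmDiff_cancel_right]
  have hkey := card_symmDiff_add (s.erase i) e
  rw [← hce, hs4] at hkey
  have h8 : 8 ≤ c.card := by
    rcases h.eq_empty_or hc with e0 | e0
    · exfalso
      rw [e0, Finset.erase_empty, ← Finset.bot_eq_empty, bot_symmDiff] at hse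
      rw [hse] at hs4
      omega
    · exact e0
  have hp := Finset.pred_card_le_card_erase (s := c) (a := i)
  have hc8 : c.card = 8 := by omega
  have hic : i ∈ c := by
    by_contra hi'
    rw [Finset.erase_eq_of_notMem hi'] at hkey
    omega
  have hdis : s.erase i ∩ e = ∅ := Finset.card_eq_zero.1 (by omega)
  have hsub : s ⊆ c := by
    intro a ha
    by_cases hai : a = i
    · exact hai ▸ hic
    · have h1 : a ∈ s.erase i := Finset.mem_erase.2 ⟨hai, ha⟩
      have h2 : a ∉ e := fun h2 => by
        have : a ∈ s.erase i ∩ e := Finset.mem_inter.2 ⟨h1, h2⟩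
        simp [hdis] at this
      exact Finset.mem_of_mem_erase (hce ▸ Finset.mem_symmDiff.2 (Or.inl ⟨h1, h2⟩))
  refine ⟨c, ⟨Finset.mem_filter.2 ⟨hc, hc8⟩, hsub⟩, fun b ⟨hb, hsb⟩ => ?_⟩
  rw [Finset.mem_filter] at hb
  refine h.eq_of_card_le hb.1 hc ?_
  have h1 := card_symmDiff_add b c
  have h2 := Finset.card_le_card (Finset.subset_inter hsb hsub)
  omega

theorem card_octads_through (S : Finset (Fin 24)) (c : ℕ) (hS : S.card ≤ 5)
    (hc : c * (8 - S.card).choose (5 - S.card) = (24 - S.card).choose (5 - S.card)) :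
    (((sets C).filter fun b => b.card = 8).filter (S ⊆ ·)).card = c := by
  have := SteinerCount.card_through (t := 5) (k := 8) (B := (sets C).filter fun b => b.card = 8)
    (fun b hb => (Finset.mem_filter.1 hb).2) h.steiner S hS
  rw [Fintype.card_fin, ← hc] at this
  exact Nat.eq_of_mul_eq_mul_right (Nat.choose_pos (by omega)) this

/-- A small non-empty set meets some word of weight 8 oddly. -/
theorem exists_odd {u : Finset (Fin 24)} (hu0 : u ≠ ∅) (hu : u.card ≤ 4) :
    ∃ b ∈ sets C, b.card = 8 ∧ ¬ Even (b ∩ u).card := by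
  have key : ∀ (S : Finset (Fin 24)) (a : Fin 24) (c d : ℕ), a ∉ S → S.card ≤ 4 → d < c →
      c * (8 - S.card).choose (5 - S.card) = (24 - S.card).choose (5 - S.card) →
      d * (8 - (S.card + 1)).choose (5 - (S.card + 1)) =
        (24 - (S.card + 1)).choose (5 - (S.card + 1)) →
      ∃ b ∈ sets C, b.card = 8 ∧ S ⊆ b ∧ a ∉ b := by
    intro S a c d ha hS hdc hc hd
    have hins : (insert a S).card = S.card + 1 := Finset.card_insert_of_notMem ha
    have h1 := h.card_octads_through S c (by omega) hc
    have h2 := h.card_octads_through (insert a S) d (by omega) (by rw [hins]; exact hd)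
    by_contra hno
    push Not at hno
    have : ((sets C).filter fun b => b.card = 8).filter (S ⊆ ·) ⊆
        ((sets C).filter fun b => b.card = 8).filter (insert a S ⊆ ·) := fun b hb => by
      simp only [Finset.mem_filter] at hb ⊢
      exact ⟨hb.1, Finset.insert_subset (hno b hb.1.1 hb.1.2 hb.2) hb.2⟩
    have := Finset.card_le_card this
    omega
  have hpos : 0 < u.card := Finset.card_pos.2 (Finset.nonempty_of_ne_empty hu0)
  rcases (show u.card = 1 ∨ u.card = 2 ∨ u.card = 3 ∨ u.card = 4 by omega) with hk | hk | hk | hk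
  · obtain ⟨T, hT, -, hT5⟩ := Finset.exists_subsuperset_card_eq (Finset.subset_univ u)
      (show u.card ≤ 5 by omega) (by simp)
    obtain ⟨b, ⟨hb, hTb⟩, -⟩ := h.steiner T hT5
    rw [Finset.mem_filter] at hb
    refine ⟨b, hb.1, hb.2, ?_⟩
    rw [Finset.inter_eq_right.2 (hT.trans hTb), hk]
    decide
  · obtain ⟨a, b', hab, rfl⟩ := Finset.card_eq_two.1 hk
    obtain ⟨b, hb, hb8, hsub, hnot⟩ := key {a} b' 253 77 (by simpa using hab.symm) (by simp)
      (by norm_num) (by simp; decide) (by simp; decide)
    refine ⟨b, hb, hb8, ?_⟩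
    have ha : a ∈ b := hsub (Finset.mem_singleton_self a)
    have : b ∩ {a, b'} = {a} := by
      ext x
      simp only [Finset.mem_inter, Finset.mem_insert, Finset.mem_singleton]
      exact ⟨fun ⟨hx, hx'⟩ => hx'.resolve_right fun e => hnot (e ▸ hx), fun e => by subst e; exact ⟨ha, Or.inl rfl⟩⟩
    rw [this, Finset.card_singleton]
    decide
  · obtain ⟨T, hT, -, hT5⟩ := Finset.exists_subsuperset_card_eq (Finset.subset_univ u)
      (show u.card ≤ 5 by omega) (by simp)
    obtain ⟨b, ⟨hb, hTb⟩, -⟩ := h.steiner T hT5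
    rw [Finset.mem_filter] at hb
    refine ⟨b, hb.1, hb.2, ?_⟩
    rw [Finset.inter_eq_right.2 (hT.trans hTb), hk]
    decide
  · obtain ⟨a, ha⟩ := Finset.card_pos.1 hpos
    have hcard : (u.erase a).card = 3 := by rw [Finset.card_erase_of_mem ha]; omega
    obtain ⟨b, hb, hb8, hsub, hnot⟩ := key (u.erase a) a 21 5 (Finset.notMem_erase a u) (by omega)
      (by norm_num) (by rw [hcard]; decide) (by rw [hcard]; decide)
    refine ⟨b, hb, hb8, ?_⟩
    have : b ∩ u = u.erase a := by
      ext x
      simp only [Finset.mem_inter, Finset.mem_erase]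
      exact ⟨fun ⟨hx, hx'⟩ => ⟨fun e => hnot (e ▸ hx), hx'⟩,
        fun ⟨hxa, hx⟩ => ⟨hsub (Finset.mem_erase.2 ⟨hxa, hx⟩), hx⟩⟩
    rw [this, hcard]
    decide

/-- Self-duality, detected on words of weight 8. -/
theorem mem_of_orth {w : Fin 24 → ZMod 2}
    (hw : ∀ v ∈ C, hammingNorm v = 8 → ∑ i, w i * v i = 0) : w ∈ C := by
  obtain ⟨c, hc, hle, -⟩ := h.leader 0 (supp w)
  by_cases h0 : supp w ∆ c = ∅
  · have : supp w = c := symmDiff_eq_bot.1 h0
    rw [← supp_mem_sets, this]; exact hc
  exfalso
  obtain ⟨b, hb, hb8, hodd⟩ := h.exists_odd h0 hle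
  apply hodd
  have h1 := hw _ (mem_sets.1 hb) (by rw [hammingNorm_eq, supp_word, hb8])
  rw [dot_eq, supp_word, ZMod.natCast_eq_zero_iff_even, Finset.inter_comm] at h1
  have h2 := h.even_inter hb hc
  have h3 : b ∩ (supp w ∆ c) = (b ∩ supp w) ∆ (b ∩ c) := by
    ext a; simp only [Finset.mem_inter, Finset.mem_symmDiff]; tauto
  have h4 := card_symmDiff_add (b ∩ supp w) (b ∩ c)
  rw [← h3] at h4
  rw [Nat.even_iff] at h1 h2 ⊢
  omega

/-- The words of weight 8 span the code. -/
theorem span_eq :
    Submodule.span (ZMod 2) {w : Fin 24 → ZMod 2 | w ∈ C ∧ hammingNorm w = 8} = C := by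
  set D := Submodule.span (ZMod 2) {w : Fin 24 → ZMod 2 | w ∈ C ∧ hammingNorm w = 8} with hD
  have hle : D ≤ C := Submodule.span_le.2 fun w hw => hw.1
  refine Submodule.eq_of_le_of_finrank_le hle ?_
  let Φ : (Fin 24 → ZMod 2) →ₗ[ZMod 2] Module.Dual (ZMod 2) D :=
    { toFun := fun x =>
        { toFun := fun d => ∑ i, x i * (d : Fin 24 → ZMod 2) i
          map_add' := fun a b => by simp [mul_add, Finset.sum_add_distrib]
          map_smul' := fun r a => by simp [Finset.mul_sum, mul_left_comm] }
      map_add' := fun x y => by ext d; simp [add_mul, Finset.sum_add_distrib]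
      map_smul' := fun r x => by ext d; simp [Finset.mul_sum, mul_assoc] }
  have hker : LinearMap.ker Φ ≤ C := fun x hx => by
    refine h.mem_of_orth fun v hv hv8 => ?_
    exact LinearMap.congr_fun (LinearMap.mem_ker.1 hx) ⟨v, Submodule.subset_span ⟨hv, hv8⟩⟩
  have h1 := LinearMap.finrank_range_add_finrank_ker Φ
  have h2 := Submodule.finrank_mono hker
  have h3 := Submodule.finrank_le (LinearMap.range Φ)
  rw [Subspace.dual_finrank_eq] at h3
  have h4 : Module.finrank (ZMod 2) (Fin 24 → ZMod 2) = 24 := Module.finrank_fin_fun _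
  have h5 := h.dim
  omega

end Hyp

end CfsgLib.SelfDual24
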